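import Cfsg.Agent.PiClasses.Basic

/-!
Orbit counting inside a Sylow subgroup, and centralizers in an invariant Sylow subgroup.
-/

set_option autoImplicit false
set_option linter.unusedSectionVars false
set_option linter.style.haveILetI false
set_option linter.deprecated false

namespace CfsgLib.PiClasses

open Subgroup CfsgLib.FGSA CfsgLib.Solvable
open scoped Pointwise

variable {G : Type*} [Group G] [Finite G]

theorem prime_pow_dvd_two_step {s : ℕ} (hs : s.Prime) {a b : ℕ} (h : b + 2 ≤ a) :
    s ^ 2 * s ^ b ≤ s ^ a := by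
  rw [← pow_add]; exact Nat.pow_le_pow_right hs.pos (by omega)

/-- Outside the centralizer of a normalizing `s`-group the fibres of `toPClasses` have at least `s`
elements. -/
theorem le_card_fiber {r s : ℕ} [Fact r.Prime] [Fact s.Prime] (R : Sylow r G) (A : Subgroup G)
    (hA : IsPGroup s A) (hAR : A ≤ normalizer ((R : Subgroup G) : Set G))
    (x : (R : Subgroup G)) (hx : ∃ a ∈ A, a * (x : G) ≠ x * a) :
    s ≤ Nat.card {x' : (R : Subgroup G) // toPClasses R x' = toPClasses R x} := by
  classical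
  let T := {x' : (R : Subgroup G) // toPClasses R x' = toPClasses R x}
  letI : MulAction A T :=
    { smul := fun a t => ⟨⟨(a : G) * (t.1 : G) * (a : G)⁻¹,
          (mem_normalizer_iff.1 (hAR a.2) _).1 t.1.2⟩,
        (Subtype.ext (ConjClasses.mk_eq_mk_iff_isConj.2 (isConj_iff.2 ⟨(a : G), rfl⟩).symm) :
          _ = toPClasses R t.1).trans t.2⟩
      one_smul := fun t => Subtype.ext (Subtype.ext (by
        show ((1 : A) : G) * (t.1 : G) * ((1 : A) : G)⁻¹ = _
        simp))
      mul_smul := fun a b t => Subtype.ext (Subtype.ext (by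
        show ((a * b : A) : G) * (t.1 : G) * ((a * b : A) : G)⁻¹
          = (a : G) * ((b : G) * (t.1 : G) * (b : G)⁻¹) * (a : G)⁻¹
        push_cast; group)) }
  let t0 : T := ⟨x, rfl⟩
  obtain ⟨n, hn⟩ := hA.card_orbit t0
  have hn0 : n ≠ 0 := by
    rintro rfl
    obtain ⟨a, ha, hax⟩ := hx
    rw [pow_zero] at hn
    haveI := (Nat.card_eq_one_iff_unique.1 hn).1
    have he : (⟨a, ha⟩ : A) • t0 = t0 := congrArg Subtype.val (Subsingleton.elim
      (⟨_, MulAction.mem_orbit t0 (⟨a, ha⟩ : A)⟩ : MulAction.orbit A t0)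
      ⟨t0, MulAction.mem_orbit_self t0⟩)
    exact hax (mul_inv_eq_iff_eq_mul.1 (congrArg (fun t : T => (t.1 : G)) he))
  calc s ≤ s ^ n := Nat.le_self_pow hn0 s
    _ = Nat.card (MulAction.orbit A t0) := hn.symm
    _ ≤ Nat.card T := Finite.card_subtype_le _

/-- The classes of `r`-elements when a Sylow `r`-subgroup is not abelian. -/
theorem card_pClasses_nonabelian {r : ℕ} [Fact r.Prime] (R : Sylow r G)
    (hne : ¬ IsMulCommutative (R : Subgroup G)) :
    r ^ 3 * Nat.card (pClasses r G) + Nat.card (R : Subgroup G) ≤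
      Nat.card (R : Subgroup G) * r ^ 2 + r * Nat.card (R : Subgroup G) := by
  have hr : r.Prime := Fact.out
  set Z := center (R : Subgroup G) with hZ
  obtain ⟨n, hn⟩ := R.isPGroup'.index Z
  have hn1 : 2 ≤ n := by
    by_contra hlt
    have hcyc : IsCyclic ((R : Subgroup G) ⧸ Z) := by
      rcases (show n = 0 ∨ n = 1 by omega) with rfl | rfl
      · haveI : Subsingleton ((R : Subgroup G) ⧸ Z) :=
          (Nat.card_eq_one_iff_unique.1 (by rw [← index_eq_card, hn, pow_zero])).1
        infer_instance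
      · exact isCyclic_of_prime_card (p := r) (by rw [← index_eq_card, hn, pow_one])
    exact hne ⟨⟨fun x y => commutative_of_cyclic_center_quotient (QuotientGroup.mk' Z)
        (by rw [QuotientGroup.ker_mk']) x y⟩⟩
  have h1 := mul_card_le_add (toPClasses R) (toPClasses_surjective R)
    (Z : Set (R : Subgroup G)) r fun x hx => le_card_fiber R (R : Subgroup G) R.isPGroup'
      le_normalizer x (by
        obtain ⟨y, hy⟩ := not_forall.1 (fun h' => hx (mem_center_iff.2 h'))
        exact ⟨y, y.2, fun h' => hy (Subtype.ext h')⟩)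
  rw [show Nat.card ((Z : Set (R : Subgroup G))) = Nat.card Z from rfl] at h1
  have h2 : r ^ 2 * Nat.card Z ≤ Nat.card (R : Subgroup G) := by
    rw [← Z.card_mul_index, hn, mul_comm]
    exact Nat.mul_le_mul_left _ (Nat.pow_le_pow_right hr.pos hn1)
  obtain ⟨r', hr'⟩ : ∃ r', r = r' + 1 := ⟨r - 1, by have := hr.pos; omega⟩
  subst hr'
  rw [Nat.add_sub_cancel] at h1
  nlinarith [Nat.mul_le_mul_left ((r' + 1) ^ 2) h1, Nat.mul_le_mul_left r' h2]

/-- In an abelian Sylow subgroup normalized nontrivially by an element, few elements are fixed. -/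
theorem mul_card_fixed_le {r : ℕ} [Fact r.Prime] (R : Sylow r G) {g : G}
    (hg : g ∉ centralizer ((R : Subgroup G) : Set G)) :
    r * Nat.card ((centralizer ({g} : Set G)).subgroupOf (R : Subgroup G)) ≤
      Nat.card (R : Subgroup G) := by
  set F := (centralizer ({g} : Set G)).subgroupOf (R : Subgroup G) with hF
  obtain ⟨n, hn⟩ := R.isPGroup'.index F
  have hn0 : n ≠ 0 := by
    rintro rfl
    rw [pow_zero, index_eq_one] at hn
    refine hg (mem_centralizer_iff.2 fun x hx => ?_)
    have : (⟨x, hx⟩ : (R : Subgroup G)) ∈ F := hn ▸ mem_top _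
    exact mem_centralizer_singleton_iff.1 (mem_subgroupOf.1 this)
  rw [← F.card_mul_index, hn, mul_comm r]
  exact Nat.mul_le_mul_left _ (Nat.le_self_pow hn0 r)

/-- A proper fixed subgroup of an `r`-element on an `s`-group, `s < r`, has index at least `s²`. -/
theorem sq_mul_card_inf_centralizer_le {r s : ℕ} [hr : Fact r.Prime] [hs : Fact s.Prime]
    (hsr : s < r) (S : Subgroup G) (hS : IsPGroup s S) {u : G} (hu : IsPGroup r (zpowers u))
    (huS : u ∈ normalizer (S : Set G)) (hnc : u ∉ centralizer (S : Set G)) :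
    s ^ 2 * Nat.card ↥(S ⊓ centralizer ({u} : Set G)) ≤ Nat.card S := by
  have hA : zpowers u ≤ normalizer (S : Set G) := zpowers_le.2 huS
  letI : MulAction (zpowers u) S :=
    { smul := fun a t => ⟨(a : G) * (t : G) * (a : G)⁻¹, (mem_normalizer_iff.1 (hA a.2) _).1 t.2⟩
      one_smul := fun t => Subtype.ext (by
        show ((1 : zpowers u) : G) * (t : G) * ((1 : zpowers u) : G)⁻¹ = _
        simp)
      mul_smul := fun a b t => Subtype.ext (by
        show ((a * b : zpowers u) : G) * (t : G) * ((a * b : zpowers u) : G)⁻¹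
          = (a : G) * ((b : G) * (t : G) * (b : G)⁻¹) * (a : G)⁻¹
        push_cast; group) }
  have hfix : Nat.card (MulAction.fixedPoints (zpowers u) S) =
      Nat.card ↥(S ⊓ centralizer ({u} : Set G)) := by
    refine Nat.card_congr
      { toFun := fun t => ⟨(t.1 : G), t.1.2, mem_centralizer_singleton_iff.2 ?_⟩
        invFun := fun t => ⟨⟨(t : G), t.2.1⟩, fun a => Subtype.ext ?_⟩
        left_inv := fun _ => rfl
        right_inv := fun _ => rfl }
    · exact (mul_inv_eq_iff_eq_mul.1 (congrArg Subtype.val (t.2 ⟨u, mem_zpowers u⟩))).symm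
    · show (a : G) * (t : G) * (a : G)⁻¹ = (t : G)
      obtain ⟨i, hi⟩ := mem_zpowers_iff.1 a.2
      rw [← hi, mul_inv_eq_iff_eq_mul]
      exact ((show Commute (t : G) u from mem_centralizer_singleton_iff.1 t.2.2).zpow_right i).eq.symm
  have hmod := hu.card_modEq_card_fixedPoints S
  rw [hfix] at hmod
  obtain ⟨a, ha⟩ := IsPGroup.iff_card.1 hS
  obtain ⟨b, hb⟩ := IsPGroup.iff_card.1 (hS.to_le (inf_le_left : S ⊓ centralizer ({u} : Set G) ≤ S))
  rw [ha, hb] at hmod ⊢
  have hba : b ≤ a := (Nat.pow_le_pow_iff_right hs.out.one_lt).1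
    (by rw [← ha, ← hb]; exact card_le_of_le inf_le_left)
  refine prime_pow_dvd_two_step hs.out ?_
  by_contra hlt
  rcases (show b = a ∨ b + 1 = a by omega) with rfl | rfl
  · refine hnc (mem_centralizer_iff.2 fun t ht => ?_)
    have he := eq_of_le_of_card_le (inf_le_left : S ⊓ centralizer ({u} : Set G) ≤ S)
      (by rw [ha, hb])
    exact mem_centralizer_singleton_iff.1 (he.ge ht).2
  · have hd : r ∣ s ^ (b + 1) - s ^ b :=
      (Nat.modEq_iff_dvd' (Nat.pow_le_pow_right hs.out.pos (by omega))).1 hmod.symm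
    rw [show s ^ (b + 1) - s ^ b = s ^ b * (s - 1) by
      rw [Nat.mul_sub, pow_succ, mul_one]] at hd
    rcases hr.out.dvd_mul.1 hd with h | h
    · have := (Nat.prime_dvd_prime_iff_eq hr.out hs.out).1 (hr.out.dvd_of_dvd_pow h)
      omega
    · have := hs.out.two_le
      have := Nat.le_of_dvd (by omega) h
      omega

end CfsgLib.PiClasses
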