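import Cfsg.Agent.FGSA.ClassCount
import Cfsg.Agent.Solvable.NilpotentHall
import Cfsg.Agent.Solvable.CoprimeAct

/-!
Tools for counting classes of π-elements: the π-part, products of commuting nilpotent subgroups,
fibres of surjections and the splitting of classes along one prime.
-/

set_option autoImplicit false
set_option linter.unusedSectionVars false
set_option linter.style.haveILetI false
set_option linter.deprecated false

namespace CfsgLib.PiClasses

open Subgroup CfsgLib.FGSA
open scoped Pointwise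

/-- The `π`-part of the order of a group. -/
noncomputable def piPart (π : Finset ℕ) (G : Type*) [Group G] : ℕ :=
  π.prod fun s => s ^ (Nat.card G).factorization s

variable {G : Type*} [Group G]

theorem piPart_pos (π : Finset ℕ) (hπ : ∀ s ∈ π, s.Prime) : 0 < piPart π G :=
  Finset.prod_pos fun s hs => pow_pos (hπ s hs).pos _

theorem piPart_insert {r : ℕ} {π : Finset ℕ} (h : r ∉ π) :
    piPart (insert r π) G = r ^ (Nat.card G).factorization r * piPart π G :=
  Finset.prod_insert h

theorem mem_of_prime_dvd_piPart {π : Finset ℕ} (hπ : ∀ s ∈ π, s.Prime) {s : ℕ} (hs : s.Prime)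
    (hd : s ∣ piPart π G) : s ∈ π := by
  obtain ⟨t, ht, hst⟩ := hs.prime.exists_mem_finset_dvd hd
  rwa [(Nat.prime_dvd_prime_iff_eq hs (hπ t ht)).1 (hs.dvd_of_dvd_pow hst)]

theorem piPart_dvd (π : Finset ℕ) (hπ : ∀ s ∈ π, s.Prime) : piPart π G ∣ Nat.card G := by
  refine Finset.prod_dvd_of_isRelPrime (fun a ha b hb hab => ?_) (fun s _ => Nat.ordProj_dvd _ s)
  exact Nat.coprime_iff_isRelPrime.1 (Nat.Coprime.pow _ _ ((Nat.coprime_primes (hπ a ha) (hπ b hb)).2 hab))

theorem coprime_piPart_div [Finite G] (π : Finset ℕ) (hπ : ∀ s ∈ π, s.Prime) :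
    (piPart π G).Coprime (Nat.card G / piPart π G) := by
  refine Nat.coprime_of_dvd fun s hs h1 h2 => ?_
  have hmem := mem_of_prime_dvd_piPart hπ hs h1
  obtain ⟨c, hc⟩ := piPart_dvd π hπ (G := G)
  rw [hc, Nat.mul_div_cancel_left _ (piPart_pos π hπ)] at h2
  have h3 : s ^ ((Nat.card G).factorization s + 1) ∣ Nat.card G := by
    rw [pow_succ]
    exact (mul_dvd_mul (Finset.dvd_prod_of_mem (fun t => t ^ (Nat.card G).factorization t) hmem)
      h2).trans hc.symm.dvd
  exact Nat.pow_succ_factorization_not_dvd Nat.card_pos.ne' hs h3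

/-- A subgroup whose order is the `π`-part is a Hall subgroup. -/
theorem coprime_index [Finite G] {π : Finset ℕ} (hπ : ∀ s ∈ π, s.Prime) {L : Subgroup G}
    (hL : Nat.card L = piPart π G) : (Nat.card L).Coprime L.index := by
  have h := coprime_piPart_div (G := G) π hπ
  have hc := L.card_mul_index
  rw [← hL] at h
  rwa [← hc, Nat.mul_div_cancel_left _ Nat.card_pos] at h

/-- A `π`-subgroup has order dividing the `π`-part. -/
theorem dvd_piPart [Finite G] {π : Finset ℕ} (hπ : ∀ s ∈ π, s.Prime) {a : ℕ}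
    (ha : a ∣ Nat.card G) (hmem : ∀ s : ℕ, s.Prime → s ∣ a → s ∈ π) : a ∣ piPart π G := by
  have hc := piPart_dvd π hπ (G := G)
  refine Nat.Coprime.dvd_of_dvd_mul_right (n := Nat.card G / piPart π G) ?_
    (by rw [Nat.mul_div_cancel' hc]; exact ha)
  refine Nat.coprime_of_dvd fun s hs h1 h2 => ?_
  exact hs.ne_one (Nat.eq_one_of_dvd_coprimes (coprime_piPart_div π hπ)
    (dvd_trans (dvd_pow_self s (hs.factorization_pos_of_dvd Nat.card_pos.ne' (h1.trans ha)).ne')
      (Finset.dvd_prod_of_mem (fun t => t ^ (Nat.card G).factorization t) (hmem s hs h1))) h2)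

theorem piPart_subgroup_dvd [Finite G] (π : Finset ℕ) (hπ : ∀ s ∈ π, s.Prime) (H : Subgroup G) :
    piPart π H ∣ piPart π G :=
  dvd_piPart hπ ((piPart_dvd π hπ).trans H.card_subgroup_dvd_card)
    fun _ hs hd => mem_of_prime_dvd_piPart hπ hs hd

theorem piPart_le_subgroup [Finite G] (π : Finset ℕ) (hπ : ∀ s ∈ π, s.Prime) (H : Subgroup G) :
    piPart π H ≤ piPart π G :=
  Nat.le_of_dvd (piPart_pos π hπ) (piPart_subgroup_dvd π hπ H)

/-- A proper `π`-part is smaller by at least the least prime. -/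
theorem mul_piPart_le [Finite G] {π : Finset ℕ} (hπ : ∀ s ∈ π, s.Prime) {p : ℕ}
    (hmin : ∀ s ∈ π, p ≤ s) (H : Subgroup G) (hne : piPart π H ≠ piPart π G) :
    p * piPart π H ≤ piPart π G := by
  obtain ⟨d, hd⟩ := piPart_subgroup_dvd π hπ H
  have hd1 : d ≠ 1 := fun h => hne (by rw [hd, h, mul_one])
  obtain ⟨s, hs, hsd⟩ := Nat.exists_prime_and_dvd hd1
  have hmem : s ∈ π := mem_of_prime_dvd_piPart hπ hs (hd ▸ hsd.trans (dvd_mul_left d _))
  have hdpos : 0 < d := Nat.pos_of_ne_zero fun h => by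
    have := piPart_pos (G := G) π hπ
    rw [hd, h, mul_zero] at this; omega
  rw [hd, mul_comm p]
  exact Nat.mul_le_mul_left _ ((hmin s hmem).trans (Nat.le_of_dvd hdpos hsd))

/-- Two commuting nilpotent subgroups of coprime orders generate a nilpotent subgroup. -/
theorem exists_nilpotent_product [Finite G] (A B : Subgroup G) [Group.IsNilpotent A]
    [Group.IsNilpotent B] (hcomm : ∀ a ∈ A, ∀ b ∈ B, a * b = b * a)
    (hcop : (Nat.card A).Coprime (Nat.card B)) :
    ∃ H : Subgroup G, Nat.card H = Nat.card A * Nat.card B ∧ Group.IsNilpotent H := by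
  let f : A × B →* G := MonoidHom.noncommCoprod A.subtype B.subtype fun a b => hcomm a a.2 b b.2
  have hinj : Function.Injective f :=
    (MonoidHom.noncommCoprod_injective _ _ _).2 ⟨A.subtype_injective, B.subtype_injective, by
      rw [A.range_subtype, B.range_subtype, disjoint_iff]
      exact Subgroup.inf_eq_bot_of_coprime hcop⟩
  refine ⟨f.range, ?_, ?_⟩
  · rw [← Nat.card_prod]
    exact (Nat.card_congr (MonoidHom.ofInjective hinj).toEquiv).symm
  · exact Group.nilpotent_of_mulEquiv (MonoidHom.ofInjective hinj)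

/-- A surjection whose fibres outside `F` have at least `s` points. -/
theorem mul_card_le_add {α β : Type*} [Finite α] (f : α → β) (hf : Function.Surjective f)
    (F : Set α) (s : ℕ) (h : ∀ a, a ∉ F → s ≤ Nat.card {a' // f a' = f a}) :
    s * Nat.card β ≤ Nat.card α + (s - 1) * Nat.card F := by
  classical
  haveI := Fintype.ofFinite α
  haveI : Finite β := Finite.of_surjective f hf
  haveI := Fintype.ofFinite β
  rcases Nat.eq_zero_or_pos s with rfl | hs
  · simp
  have h1 : Nat.card α = ∑ b : β, (Finset.univ.filter fun a => f a = b).card := by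
    rw [Nat.card_eq_fintype_card, ← Finset.card_univ]
    exact Finset.card_eq_sum_card_fiberwise fun a _ => Finset.mem_univ (f a)
  have h2 : Nat.card F = ∑ b : β, ((Finset.univ.filter fun a => a ∈ F).filter fun a => f a = b).card := by
    rw [Nat.card_eq_fintype_card, ← Finset.card_eq_sum_card_fiberwise fun a _ => Finset.mem_univ (f a)]
    exact Fintype.card_subtype _
  have h3 : s * Nat.card β = ∑ _b : β, s := by
    rw [Finset.sum_const, Finset.card_univ, smul_eq_mul, Nat.card_eq_fintype_card, mul_comm]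
  rw [h3, h1, h2, Finset.mul_sum, ← Finset.sum_add_distrib]
  refine Finset.sum_le_sum fun b _ => ?_
  obtain ⟨a, rfl⟩ := hf b
  by_cases hF : ∃ a' ∈ F, f a' = f a
  · obtain ⟨a', ha', he⟩ := hF
    have hA : 1 ≤ (Finset.univ.filter fun x => f x = f a).card :=
      Finset.card_pos.2 ⟨a', by simp [he]⟩
    have hB : 1 ≤ ((Finset.univ.filter fun x => x ∈ F).filter fun x => f x = f a).card :=
      Finset.card_pos.2 ⟨a', by simp [he, ha']⟩
    have := Nat.mul_le_mul_left (s - 1) hB
    omega
  · have ha : a ∉ F := fun h' => hF ⟨a, h', rfl⟩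
    have := h a ha
    rw [Nat.card_eq_fintype_card, Fintype.card_subtype] at this
    omega

/-- Splitting classes of `π`-elements along a family meeting all classes of `r`-elements. -/
theorem card_piClasses_insert_le_sum [Finite G] {r : ℕ} (hr : r.Prime) (π : Finset ℕ)
    {ι : Type*} [Fintype ι] (rep : ι → G)
    (hcov : ∀ x : G, (∃ k : ℕ, orderOf x = r ^ k) → ∃ i, IsConj (rep i) x) :
    Nat.card (piClasses (insert r π) G) ≤
      ∑ i, Nat.card (piClasses π (centralizer ({rep i} : Set G))) := by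
  classical
  let D := Σ i : ι, piClasses π (centralizer ({rep i} : Set G))
  have hzrep : ∀ (i : ι) (d : piClasses π (centralizer ({rep i} : Set G))),
      ∃ z, ConjClasses.mk z = d.1 := fun i d => ConjClasses.exists_rep d.1
  choose zrep hzrep using hzrep
  let Φ : D → ConjClasses G := fun d => ConjClasses.mk (rep d.1 * (zrep d.1 d.2 : G))
  let j : piClasses (insert r π) G → ConjClasses G := Subtype.val
  have hcover : Set.range j ⊆ Set.range Φ := by
    rintro _ ⟨⟨c, hc⟩, rfl⟩
    obtain ⟨y, rfl⟩ := ConjClasses.exists_rep c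
    have hπy := hc y ConjClasses.mem_carrier_mk
    set n := orderOf y with hn
    have hn0 : n ≠ 0 := (orderOf_pos y).ne'
    set a := r ^ n.factorization r with ha
    set b := n / a with hb
    have hab : a * b = n := Nat.ordProj_mul_ordCompl_eq_self n r
    have hcop : Nat.Coprime a b := (Nat.coprime_ordCompl hr hn0).pow_left _
    obtain ⟨u, v, huv⟩ : ∃ u v : ℤ, 1 = (a : ℤ) * u + (b : ℤ) * v :=
      ⟨Nat.gcdA a b, Nat.gcdB a b, by
        have := Nat.gcd_eq_gcd_ab a b
        rw [hcop] at this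
        exact_mod_cast this⟩
    set x := y ^ ((b : ℤ) * v) with hx
    set z := y ^ ((a : ℤ) * u) with hz
    have hxz : x * z = y := by
      rw [hx, hz, ← zpow_add, add_comm, ← huv, zpow_one]
    have hxa : x ^ a = 1 := by
      rw [hx, ← zpow_natCast, ← zpow_mul, show ((b : ℤ) * v * (a : ℤ)) = ((n : ℕ) : ℤ) * v by
        rw [← hab]; push_cast; ring, zpow_mul, zpow_natCast, hn, pow_orderOf_eq_one, one_zpow]
    have hzb : z ^ b = 1 := by
      rw [hz, ← zpow_natCast, ← zpow_mul, show ((a : ℤ) * u * (b : ℤ)) = ((n : ℕ) : ℤ) * u by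
        rw [← hab]; push_cast; ring, zpow_mul, zpow_natCast, hn, pow_orderOf_eq_one, one_zpow]
    obtain ⟨k, -, hk⟩ := (Nat.dvd_prime_pow hr).1 (orderOf_dvd_of_pow_eq_one hxa)
    obtain ⟨i, hi⟩ := hcov x ⟨k, hk⟩
    obtain ⟨g, hg⟩ := isConj_iff.1 hi.symm
    have hzx : x * z = z * x := (Commute.refl y).zpow_zpow _ _
    have hzC : g * z * g⁻¹ ∈ centralizer ({rep i} : Set G) := by
      rw [mem_centralizer_singleton_iff, ← hg]
      calc g * z * g⁻¹ * (g * x * g⁻¹) = g * (z * x) * g⁻¹ := by group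
        _ = g * (x * z) * g⁻¹ := by rw [hzx]
        _ = g * x * g⁻¹ * (g * z * g⁻¹) := by group
    let z' : centralizer ({rep i} : Set G) := ⟨g * z * g⁻¹, hzC⟩
    have hzπ : ∀ w ∈ (ConjClasses.mk z').carrier, ∀ s : ℕ, s.Prime → s ∣ orderOf w → s ∈ π := by
      intro w hw s hs hsd
      rw [orderOf_eq_of_isConj ((ConjClasses.mk_eq_mk_iff_isConj.1
        (ConjClasses.mem_carrier_iff_mk_eq.1 hw)).symm), ← Subgroup.orderOf_coe,
        show ((z' : centralizer ({rep i} : Set G)) : G) = MulAut.conj g z from rfl,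
        MulEquiv.orderOf_eq] at hsd
      have hsb : s ∣ b := hsd.trans (orderOf_dvd_of_pow_eq_one hzb)
      have hsn : s ∣ n := hsb.trans ⟨a, by rw [mul_comm, hab]⟩
      rcases Finset.mem_insert.1 (hπy s hs hsn) with h | h
      · subst h
        exact absurd hsb (Nat.not_dvd_ordCompl hr hn0)
      · exact h
    refine ⟨⟨i, ⟨ConjClasses.mk z', hzπ⟩⟩, ?_⟩
    obtain ⟨e, he⟩ := isConj_iff.1
      (ConjClasses.mk_eq_mk_iff_isConj.1 (hzrep i ⟨ConjClasses.mk z', hzπ⟩))
    have he' : (e : G) * (zrep i ⟨ConjClasses.mk z', hzπ⟩ : G) * (e : G)⁻¹ = g * z * g⁻¹ :=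
      congrArg Subtype.val he
    apply ConjClasses.mk_eq_mk_iff_isConj.2
    have hec : (e : G) * rep i * (e : G)⁻¹ = rep i := by
      rw [mem_centralizer_singleton_iff.1 e.2, mul_inv_cancel_right]
    refine IsConj.trans (isConj_iff.2 ⟨(e : G), rfl⟩) (IsConj.symm (isConj_iff.2 ⟨g, ?_⟩))
    calc g * y * g⁻¹ = (g * x * g⁻¹) * (g * z * g⁻¹) := by rw [← hxz]; group
      _ = ((e : G) * rep i * (e : G)⁻¹) *
            ((e : G) * (zrep i ⟨ConjClasses.mk z', hzπ⟩ : G) * (e : G)⁻¹) := by
          rw [hec, he', hg]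
      _ = _ := by group
  calc Nat.card (piClasses (insert r π) G)
      = Nat.card (Set.range j) := (Nat.card_range_of_injective Subtype.val_injective).symm
    _ ≤ Nat.card (Set.range Φ) := Nat.card_mono (Set.finite_range _) hcover
    _ ≤ Nat.card D := Finite.card_range_le _
    _ = _ := Nat.card_sigma

end CfsgLib.PiClasses
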