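import Cfsg.Agent.PiClasses.Main
import Cfsg.Agent.Char.DegreeSums
import Cfsg.Agent.Char.Central

/-!
The derived subgroup of a nilpotent Hall subgroup when there are many classes.
-/

set_option autoImplicit false
set_option linter.unusedSectionVars false
set_option linter.style.haveILetI false
set_option linter.deprecated false

namespace CfsgLib.PiClasses

open Subgroup CfsgLib.FGSA CfsgLib.Char

universe u

/-- Degree bound: `|G| + p² [G:G'] ≥ [G:G'] + p² k(G)`. -/
theorem index_add_sq_mul_classes_le {G : Type u} [Group G] [Finite G] {p : ℕ}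
    (hmin : ∀ q : ℕ, q.Prime → q ∣ Nat.card G → p ≤ q) :
    (commutator G).index + p ^ 2 * Nat.card (ConjClasses G) ≤
      Nat.card G + p ^ 2 * (commutator G).index := by
  classical
  rw [← card_irr_eq_card_conjClasses, card_irr, ← card_filter_cdeg_one, ← sum_cdeg_sq (G := G),
    Finset.card_filter, Finset.card_eq_sum_ones (irrFinset G), Finset.mul_sum, Finset.mul_sum,
    ← Finset.sum_add_distrib, ← Finset.sum_add_distrib]
  refine Finset.sum_le_sum fun χ hχ => ?_
  have hirr := mem_irrFinset.1 hχ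
  split_ifs with h1
  · simp [h1]
  · obtain ⟨q, hq, hqd⟩ := Nat.exists_prime_and_dvd h1
    have hd := IsIrrCharacter.degree_dvd_card hirr (irr_apply_one_eq_cdeg hirr)
    have h2 : p ≤ cdeg χ := (hmin q hq (hqd.trans hd)).trans (Nat.le_of_dvd (cdeg_pos hirr) hqd)
    have h3 := Nat.pow_le_pow_left h2 2
    simpa using h3

/-- The conclusions used in the two statements. -/
theorem exists_hall_with_classes {G : Type*} [Group G] [Finite G]
    (π : Set ℕ) (hπ : ∀ q ∈ π, q.Prime) (p : ℕ) (hp : 2 ≤ p) (hmin : ∀ q ∈ π, p ≤ q)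
    (m : ℕ) (hm : m ∣ Nat.card G) (hmπ : ∀ q : ℕ, q.Prime → q ∣ m → q ∈ π)
    (hm' : ∀ q ∈ π, ¬ q ∣ Nat.card G / m)
    (k : ℕ) (hk : k = Nat.card {C : ConjClasses G // ∀ q : ℕ, q.Prime →
      (∃ g : G, ConjClasses.mk g = C ∧ q ∣ orderOf g) → q ∈ π})
    (hmany : m < p * k) :
    ∃ H : Subgroup G, Nat.card H = m ∧ Group.IsNilpotent H ∧ k ≤ Nat.card (ConjClasses H) := by
  classical
  set τ := (Nat.card G).primeFactors.filter (fun q => q ∈ π)
  have hτp : ∀ s ∈ τ, s.Prime := fun s hs => Nat.prime_of_mem_primeFactors (Finset.mem_filter.1 hs).1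
  have hτmin : ∀ s ∈ τ, p ≤ s := fun s hs => hmin s (Finset.mem_filter.1 hs).2
  have hmem : ∀ q : ℕ, q.Prime → q ∣ Nat.card G → (q ∈ τ ↔ q ∈ π) := fun q hq hd => by
    simp [τ, Nat.mem_primeFactors, hq, hd, Nat.card_pos.ne']
  have hτm : piPart τ G = m := by
    refine Nat.dvd_antisymm ?_ (dvd_piPart hτp hm fun s hs hd =>
      (hmem s hs (hd.trans hm)).2 (hmπ s hs hd))
    have hcop : (piPart τ G).Coprime (Nat.card G / m) := Nat.coprime_of_dvd fun q hq h1 h2 =>
      hm' q (Finset.mem_filter.1 (mem_of_prime_dvd_piPart hτp hq h1)).2 h2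
    exact hcop.dvd_of_dvd_mul_right (by rw [Nat.mul_div_cancel' hm]; exact piPart_dvd τ hτp)
  have hcl : k = Nat.card (piClasses τ G) := by
    rw [hk]
    refine Nat.card_congr (Equiv.subtypeEquivRight fun C => ⟨fun h x hx r hr hd => ?_,
      fun h q hq ⟨g, hg, hd⟩ => ?_⟩)
    · exact (hmem r hr (hd.trans (orderOf_dvd_natCard x))).2
        (h r hr ⟨x, ConjClasses.mem_carrier_iff_mk_eq.1 hx, hd⟩)
    · exact (hmem q hq (hd.trans (orderOf_dvd_natCard g))).1
        (h g (ConjClasses.mem_carrier_iff_mk_eq.2 hg) q hq hd)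
  obtain ⟨L, hL, hLn⟩ := exists_nilpotent_hall τ.card τ rfl hτp p hp hτmin G
    (by rw [hτm, ← hcl]; exact hmany)
  refine ⟨L, hL.trans hτm, hLn, hcl ▸ ?_⟩
  have hrep : ∀ c : piClasses τ G, ∃ l : L, ConjClasses.mk (l : G) = c.1 := by
    intro c
    obtain ⟨x, hx⟩ := ConjClasses.exists_rep c.1
    have hxτ := c.2 x (ConjClasses.mem_carrier_iff_mk_eq.2 hx)
    obtain ⟨g, hg⟩ := CfsgLib.NilpotentHall.contains_conj L (zpowers x) hLn (coprime_index hτp hL)
      fun q hq hd => by
        rw [Nat.card_zpowers] at hd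
        rw [hL]
        have hmemτ := hxτ q hq hd
        exact (dvd_pow_self q (hq.factorization_pos_of_dvd Nat.card_pos.ne'
          (hd.trans (orderOf_dvd_natCard x))).ne').trans
          (Finset.dvd_prod_of_mem (fun t => t ^ (Nat.card G).factorization t) hmemτ)
    have h1 := CfsgLib.SZ.mem_conj_smul.1 (hg (mem_zpowers x))
    refine ⟨⟨_, h1⟩, ?_⟩
    rw [← hx, ConjClasses.mk_eq_mk_iff_isConj]
    exact isConj_iff.2 ⟨g, by group⟩
  choose f hf using hrep
  refine Nat.card_le_card_of_injective (fun c => ConjClasses.mk (f c)) fun c d hcd => Subtype.ext ?_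
  rw [← hf c, ← hf d, ConjClasses.mk_eq_mk_iff_isConj]
  exact L.subtype.map_isConj (ConjClasses.mk_eq_mk_iff_isConj.1 hcd)

end CfsgLib.PiClasses
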