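import Cfsg.Agent.PiClasses.Regular

/-!
Many classes of π-elements force a nilpotent Hall π-subgroup.
-/

set_option autoImplicit false
set_option linter.unusedSectionVars false
set_option linter.style.haveILetI false
set_option linter.deprecated false

namespace CfsgLib.PiClasses

open Subgroup CfsgLib.FGSA CfsgLib.Solvable CfsgLib.SZ
open scoped Pointwise

universe u

variable {G : Type u} [Group G] [Finite G]

/-- The element `x` centralizes a nilpotent subgroup of order the full `π`-part. -/
def Good (π : Finset ℕ) (x : G) : Prop :=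
  ∃ L : Subgroup G, L ≤ centralizer ({x} : Set G) ∧ Nat.card L = piPart π G ∧ Group.IsNilpotent L

theorem isNilpotent_map {X : Subgroup G} {L : Subgroup X} (h : Group.IsNilpotent L) :
    Group.IsNilpotent (L.map X.subtype) :=
  Group.nilpotent_of_mulEquiv (L.equivMapOfInjective X.subtype X.subtype_injective)

/-- A class of an element centralizing no large nilpotent subgroup contributes little. -/
theorem mul_card_le_of_not_good {π : Finset ℕ} (hπ : ∀ s ∈ π, s.Prime) {p : ℕ}
    (hmin : ∀ s ∈ π, p ≤ s)
    (IH : ∀ H : Subgroup G, piPart π H < p * Nat.card (piClasses π H) →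
      ∃ L : Subgroup H, Nat.card L = piPart π H ∧ Group.IsNilpotent L)
    {x : G} (hx : ¬ Good π x) :
    p * Nat.card (piClasses π (centralizer ({x} : Set G))) ≤ piPart π G := by
  set C := centralizer ({x} : Set G)
  rcases Nat.lt_or_ge (piPart π C) (p * Nat.card (piClasses π C)) with hlt | hge
  · obtain ⟨L, hL, hLn⟩ := IH C hlt
    by_cases he : piPart π C = piPart π G
    · exact absurd ⟨L.map C.subtype, map_subtype_le _,
        by rw [card_map_of_injective C.subtype_injective, hL, he], isNilpotent_map hLn⟩ hx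
    · exact (Nat.mul_le_mul_left _ (card_piClasses_le π hπ C)).trans (mul_piPart_le hπ hmin C he)
  · exact hge.trans (piPart_le_subgroup π hπ C)

theorem sum_le_of_cases {ι : Type*} [Fintype ι] (f : ι → ℕ) (P : ι → Prop) [DecidablePred P]
    (B D : ℕ) (h1 : ∀ i, P i → f i ≤ B + D) (h2 : ∀ i, ¬ P i → f i ≤ B) :
    ∑ i, f i ≤ Fintype.card ι * B + (Finset.univ.filter P).card * D := by
  calc ∑ i, f i ≤ ∑ i, (B + if P i then D else 0) := Finset.sum_le_sum fun i _ => by
        split_ifs with h
        · exact h1 i h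
        · exact (h2 i h).trans (Nat.le_add_right _ _)
    _ = _ := by
      rw [Finset.sum_add_distrib, Finset.sum_const, Finset.card_univ, smul_eq_mul,
        ← Finset.sum_filter, Finset.sum_const, smul_eq_mul]

set_option maxHeartbeats 1600000 in
/-- The key step: adjoining the largest prime. -/
theorem exists_hall_step {π : Finset ℕ} (hπ : ∀ s ∈ π, s.Prime) {r p : ℕ} [hrp : Fact r.Prime]
    (hrπ : ∀ s ∈ π, s < r) (hp : 2 ≤ p) (hmin : ∀ s ∈ π, p ≤ s) (hpr : p < r)
    (IH : ∀ H : Subgroup G, piPart π H < p * Nat.card (piClasses π H) →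
      ∃ L : Subgroup H, Nat.card L = piPart π H ∧ Group.IsNilpotent L)
    (hbig : r ^ (Nat.card G).factorization r * piPart π G <
      p * Nat.card (piClasses (insert r π) G)) :
    ∃ H : Subgroup G, Nat.card H = r ^ (Nat.card G).factorization r * piPart π G ∧
      Group.IsNilpotent H := by
  classical
  by_contra hno
  have hr : r.Prime := Fact.out
  have hrmem : r ∉ π := fun h => (hrπ r h).false
  obtain ⟨R⟩ := (inferInstance : Nonempty (Sylow r G))
  set M := piPart π G with hM
  set V := r ^ (Nat.card G).factorization r with hV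
  have hR : Nat.card (R : Subgroup G) = V := R.card_eq_multiplicity
  have hMpos : 0 < M := piPart_pos π hπ
  choose xr hxr using toPClasses_surjective R
  haveI : Fintype (pClasses r G) := Fintype.ofFinite _
  have hcR : Fintype.card (pClasses r G) ≤ V := by
    rw [← Nat.card_eq_fintype_card, ← hR]; exact card_pClasses_le R
  set k : pClasses r G → ℕ :=
    fun c => Nat.card (piClasses π (centralizer ({((xr c : G))} : Set G))) with hk
  have hsum : Nat.card (piClasses (insert r π) G) ≤ ∑ c, k c :=
    card_piClasses_insert_le_sum hr π (fun c : pClasses r G => ((xr c : G))) fun x hx =>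
      ⟨⟨ConjClasses.mk x, fun w hw => by
        rw [orderOf_eq_of_isConj ((ConjClasses.mk_eq_mk_iff_isConj.1
          (ConjClasses.mem_carrier_iff_mk_eq.1 hw)).symm)]
        exact hx⟩,
        ConjClasses.mk_eq_mk_iff_isConj.1 (congrArg Subtype.val (hxr _))⟩
  have hkle : ∀ c, k c ≤ M := fun c =>
    (card_piClasses_le π hπ _).trans (piPart_le_subgroup π hπ _)
  set P : pClasses r G → Prop := fun c => Good π ((xr c : G)) with hP
  have hbad : ∀ c, ¬ P c → p * k c ≤ M := fun c hc => mul_card_le_of_not_good hπ hmin IH hc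
  have hlt : V * M < p * ∑ c, k c := lt_of_lt_of_le hbig (Nat.mul_le_mul_left _ hsum)
  -- some class is good
  obtain ⟨c0, hc0⟩ : ∃ c, P c := by
    by_contra! hall
    refine absurd hlt (not_lt.2 ?_)
    rw [Finset.mul_sum]
    calc ∑ c, p * k c ≤ ∑ _c : pClasses r G, M := Finset.sum_le_sum fun c _ => hbad c (hall c)
      _ ≤ V * M := by
        rw [Finset.sum_const, Finset.card_univ, smul_eq_mul]
        exact Nat.mul_le_mul_right _ hcR
  obtain ⟨L, -, hLc, hLn⟩ := hc0
  have hrL : ¬ r ∣ Nat.card L := fun h => hrmem (mem_of_prime_dvd_piPart hπ hr (hLc ▸ h))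
  have hLHall := coprime_index hπ hLc
  -- the Sylow subgroup of `C(L)` is small
  set CL := centralizer (L : Set G)
  obtain ⟨R0⟩ := (inferInstance : Nonempty (Sylow r CL))
  have hR0 : r * Nat.card (R0 : Subgroup CL) ≤ V := by
    rw [R0.card_eq_multiplicity, hV, ← pow_succ']
    refine Nat.pow_le_pow_right hr.pos ?_
    have hle := (Nat.factorization_le_iff_dvd Nat.card_pos.ne' Nat.card_pos.ne').2
      CL.card_subgroup_dvd_card r
    by_contra hlt'
    refine hno ?_
    haveI := hLn
    haveI : Group.IsNilpotent ((R0 : Subgroup CL).map CL.subtype) :=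
      (R0.2.map _).isNilpotent
    have hc : Nat.card ((R0 : Subgroup CL).map CL.subtype) = V := by
      rw [card_map_of_injective CL.subtype_injective, R0.card_eq_multiplicity, hV]
      congr 1; omega
    obtain ⟨H, hH, hHn⟩ := exists_nilpotent_product L ((R0 : Subgroup CL).map CL.subtype)
      (fun a ha b hb => (mem_centralizer_iff.1 (map_subtype_le _ hb) a ha))
      (by rw [hc]; exact ((hr.coprime_iff_not_dvd.2 hrL).pow_left _).symm)
    exact ⟨H, by rw [hH, hc, hLc, mul_comm], hHn⟩
  set a := (Finset.univ.filter P).card with ha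
  have haR0 : a ≤ Nat.card (R0 : Subgroup CL) := by
    have hmeet : ∀ c, P c → ∃ y : (R0 : Subgroup CL), IsConj ((xr c : G)) ((y : CL) : G) := by
      rintro c ⟨L1, hL1, hL1c, hL1n⟩
      obtain ⟨g, hg⟩ := CfsgLib.NilpotentHall.contains_conj L L1 hLn hLHall
        (fun q _ hd => by rwa [hLc, ← hL1c])
      have heq := eq_of_le_of_card_le hg (by rw [card_conj_smul, hL1c, hLc])
      set x : G := (xr c : G)
      have hxC : g⁻¹ * x * g ∈ CL := by
        refine mem_centralizer_iff.2 fun l hl => ?_
        have hl' : g * l * g⁻¹ ∈ L1 := by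
          rw [heq, mem_conj_smul]
          simpa [mul_assoc] using hl
        have h1 := mem_centralizer_singleton_iff.1 (hL1 hl')
        calc l * (g⁻¹ * x * g) = g⁻¹ * ((g * l * g⁻¹) * x) * g := by group
          _ = g⁻¹ * (x * (g * l * g⁻¹)) * g := by rw [h1]
          _ = g⁻¹ * x * g * l := by group
      obtain ⟨j, hj⟩ := IsPGroup.iff_orderOf.1 R.isPGroup' (xr c)
      have hord : orderOf (⟨g⁻¹ * x * g, hxC⟩ : CL) = r ^ j := by
        rw [orderOf_mk, orderOf_eq_of_isConj (x := x) (isConj_iff.2 ⟨g⁻¹, by group⟩),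
          Subgroup.orderOf_coe, hj]
      obtain ⟨y, hy⟩ := toPClasses_surjective R0 ⟨ConjClasses.mk (⟨g⁻¹ * x * g, hxC⟩ : CL),
        fun w hw => ⟨j, by
          rw [orderOf_eq_of_isConj ((ConjClasses.mk_eq_mk_iff_isConj.1
            (ConjClasses.mem_carrier_iff_mk_eq.1 hw)).symm), hord]⟩⟩
      refine ⟨y, IsConj.trans (isConj_iff.2 ⟨g⁻¹, by group⟩ : IsConj x (g⁻¹ * x * g)) ?_⟩
      exact CL.subtype.map_isConj
        (ConjClasses.mk_eq_mk_iff_isConj.1 (congrArg Subtype.val hy)).symm
    choose y hy using fun c : {c // P c} => hmeet c.1 c.2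
    rw [ha, ← Fintype.card_subtype, ← Nat.card_eq_fintype_card]
    refine Nat.card_le_card_of_injective y fun c d hcd => Subtype.ext ?_
    have h1 : IsConj ((xr c.1 : G)) ((xr d.1 : G)) := (hy c).trans (hcd ▸ (hy d).symm)
    rw [← hxr c.1, ← hxr d.1]
    exact Subtype.ext (ConjClasses.mk_eq_mk_iff_isConj.2 h1)
  have har : r * a ≤ V := (Nat.mul_le_mul_left _ haR0).trans hR0
  have hc' : Fintype.card (pClasses r G) = Nat.card (pClasses r G) :=
    (Nat.card_eq_fintype_card).symm
  obtain ⟨p', rfl⟩ : ∃ p', p = p' + 1 := ⟨p - 1, by omega⟩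
  -- the crude bound
  have hcrude : (p' + 1) * ∑ c, k c ≤ Nat.card (pClasses r G) * M + a * (p' * M) := by
    rw [Finset.mul_sum, ← hc']
    exact sum_le_of_cases _ P _ _ (fun c _ => by
      have := Nat.mul_le_mul_left (p' + 1) (hkle c)
      linarith) hbad
  by_cases hab : IsMulCommutative (R : Subgroup G)
  swap
  · have h := card_pClasses_nonabelian R hab
    rw [hR] at h
    refine absurd hlt (not_lt.2 (hcrude.trans ?_))
    rw [← mul_assoc, ← add_mul]
    refine Nat.mul_le_mul_right _ ?_
    refine Nat.le_of_mul_le_mul_left ?_ (pow_pos hr.pos 3)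
    zify at h har hpr ⊢
    nlinarith [mul_le_mul_of_nonneg_left har
        (mul_nonneg (Int.natCast_nonneg p') (sq_nonneg (r : ℤ))),
      mul_nonneg (mul_nonneg (Int.natCast_nonneg V) (sq_nonneg (r : ℤ)))
        (show (0:ℤ) ≤ r - p' - 2 by linarith),
      mul_nonneg (Int.natCast_nonneg V)
        (mul_nonneg (Int.natCast_nonneg r) (show (0:ℤ) ≤ r - 1 by linarith [Int.natCast_nonneg p']))]
  by_cases hNC : normalizer ((R : Subgroup G) : Set G) ≤ centralizer ((R : Subgroup G) : Set G)
  · exact hno (exists_hall_regular hπ hrπ hmin hpr R hNC L hLc hLn hbig)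
  obtain ⟨g, hgN, hgC⟩ := SetLike.not_le_iff_exists.1 hNC
  by_cases hall : ∀ c, P c → 2 * (p' + 1) * k c ≤ (p' + 2) * M
  · -- all good classes are moderate
    have hF := mul_card_fixed_le R hgC
    set F := (centralizer ({g} : Set G)).subgroupOf (R : Subgroup G) with hFdef
    have h2 := two_mul_card_le_add (toPClasses R) (toPClasses_surjective R)
      (F : Set (R : Subgroup G))
      (fun x hx => ⟨⟨g * x.1 * g⁻¹, (mem_normalizer_iff.1 hgN x.1).1 x.2⟩, fun he => hx (by
          rw [SetLike.mem_coe, hFdef, mem_subgroupOf, mem_centralizer_singleton_iff]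
          exact (mul_inv_eq_iff_eq_mul.1 (congrArg Subtype.val he)).symm),
        Subtype.ext (ConjClasses.mk_eq_mk_iff_isConj.2 (isConj_iff.2 ⟨g, rfl⟩).symm)⟩)
    rw [show Nat.card ((F : Set (R : Subgroup G))) = Nat.card F from rfl, hR] at h2
    rw [hR] at hF
    have hb : 2 * (p' + 1) * ∑ c, k c ≤ Fintype.card (pClasses r G) * (2 * M) + a * (p' * M) := by
      rw [Finset.mul_sum]
      exact sum_le_of_cases _ P _ _ (fun c hc => (hall c hc).trans (le_of_eq (by ring)))
        (fun c hc => by have := hbad c hc; linarith)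
    rw [hc', ← mul_assoc, ← mul_assoc, ← add_mul] at hb
    have hlt2 : 2 * V * M < 2 * (p' + 1) * ∑ c, k c := by linarith
    have h3 : Nat.card (pClasses r G) * 2 + a * p' ≤ 2 * V := by
      refine Nat.le_of_mul_le_mul_left ?_ hr.pos
      zify at h2 hF har hpr ⊢
      nlinarith [mul_le_mul_of_nonneg_left har (Int.natCast_nonneg p'),
        mul_le_mul_of_nonneg_left h2 (Int.natCast_nonneg r),
        mul_nonneg (Int.natCast_nonneg V) (show (0:ℤ) ≤ r - p' - 1 by linarith)]
    exact absurd (lt_of_lt_of_le hlt2 (hb.trans (Nat.mul_le_mul_right M h3))) (lt_irrefl _)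
  -- one good class is large
  push Not at hall
  obtain ⟨c, ⟨L1, hL1C, hL1c, hL1n⟩, hcbig⟩ := hall
  set u : G := (xr c : G) with hu
  set C := centralizer ({u} : Set G) with hCdef
  have hRC : (R : Subgroup G) ≤ C := fun y hy =>
    mem_centralizer_singleton_iff.2 (congrArg Subtype.val (hab.is_comm.comm ⟨y, hy⟩ (xr c)))
  have hMC : piPart π C = M :=
    Nat.dvd_antisymm (piPart_subgroup_dvd π hπ C) (dvd_piPart hπ ((dvd_of_eq hL1c.symm).trans (card_dvd_of_le hL1C))
      fun s hs hd => mem_of_prime_dvd_piPart hπ hs hd)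
  set L1' := L1.subgroupOf C
  have hL1'c : Nat.card L1' = piPart π C := by
    rw [hMC, Nat.card_congr (subgroupOfEquivOfLe hL1C).toEquiv, hL1c]
  have hcompl : ∀ s ∈ π, Cfsg.HasNormalPComplement s C := by
    intro s hs
    haveI := Fact.mk (hπ s hs)
    obtain ⟨S⟩ := (inferInstance : Nonempty (Sylow s C))
    have hπ' : ∀ t ∈ π.erase s, t.Prime := fun t ht => hπ t (Finset.mem_of_mem_erase ht)
    have h1 := card_piClasses_insert_le (G := C) (hπ s hs) (π.erase s) (Finset.notMem_erase s π)
      hπ' (fun H => card_piClasses_le _ hπ' H)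
    rw [Finset.insert_erase hs] at h1
    change k c ≤ _ * piPart (π.erase s) C at h1
    refine (hasNormalPComplement_of_card_pClasses S ?_).1
    have h2 : Nat.card (S : Subgroup C) * piPart (π.erase s) C = M := by
      rw [S.card_eq_multiplicity, ← piPart_insert (Finset.notMem_erase s π),
        Finset.insert_erase hs, hMC]
    set Q := piPart (π.erase s) C
    set ks := Nat.card (pClasses s C)
    have h3 : (p' + 2) * Nat.card (S : Subgroup C) < 2 * (p' + 1) * ks := by
      refine Nat.lt_of_mul_lt_mul_right (a := Q) ?_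
      rw [mul_assoc, h2, mul_assoc]
      exact lt_of_lt_of_le hcbig (Nat.mul_le_mul_left _ h1)
    have hsp := hmin s hs
    refine Nat.lt_of_mul_lt_mul_left (a := p' + 1) ?_
    calc (p' + 1) * ((s + 1) * Nat.card (S : Subgroup C))
        ≤ s * ((p' + 2) * Nat.card (S : Subgroup C)) := by nlinarith
      _ < s * (2 * (p' + 1) * ks) := Nat.mul_lt_mul_of_pos_left h3 (hπ s hs).pos
      _ = _ := by ring
  have hL1'H := coprime_index hπ hL1'c
  obtain ⟨K0, hK0n, hK0c⟩ := CfsgLib.NilpotentHall.hall_complement_of_all L1' hL1'H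
    fun q hq hd => hcompl q (mem_of_prime_dvd_piPart hπ hq (hL1'c ▸ hd))
  haveI := hK0n
  have hK0i : K0.index = M := by rw [hK0c.symm.index_eq_card, hL1'c, hMC]
  have hrM : ¬ r ∣ M := fun h => hrmem (mem_of_prime_dvd_piPart hπ hr h)
  have hR'K0 : ((R.subtype hRC : Sylow r C) : Subgroup C) ≤ K0 :=
    le_of_coprime_index K0 _ (by
      obtain ⟨j, hj⟩ := IsPGroup.iff_card.1 (R.subtype hRC).isPGroup'
      rw [hj, hK0i]; exact (hr.coprime_iff_not_dvd.2 hrM).pow_left j)
  have hfr := Sylow.normalizer_sup_eq_top' (R.subtype hRC) hR'K0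
  set N' := normalizer (((R.subtype hRC : Sylow r C) : Subgroup C) : Set C)
  have hdN : M ∣ Nat.card (normalizer ((R : Subgroup G) : Set G)) := by
    have h1 : M ∣ Nat.card N' := by
      rw [← hK0i, ← relIndex_top_right, ← hfr, relIndex_sup_right]
      exact relIndex_dvd_card _ _
    refine h1.trans ?_
    rw [show Nat.card N' = Nat.card (N'.map C.subtype) from
      (card_map_of_injective C.subtype_injective).symm]
    refine card_dvd_of_le ((le_normalizer_map C.subtype).trans (le_of_eq ?_))
    rw [Sylow.coe_subtype, map_subgroupOf_eq_of_le hRC]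
  have hXC : centralizer ((R : Subgroup G) : Set G) ≤ C := by
    intro y hy
    exact mem_centralizer_singleton_iff.2 (mem_centralizer_iff.1 hy u (xr c).2).symm
  by_cases hdX : M ∣ Nat.card (centralizer ((R : Subgroup G) : Set G))
  · -- a nilpotent Hall subgroup centralizes `R`
    set X := (centralizer ((R : Subgroup G) : Set G)).subgroupOf C
    have hXcard : Nat.card X = Nat.card (centralizer ((R : Subgroup G) : Set G)) :=
      Nat.card_congr (subgroupOfEquivOfLe hXC).toEquiv
    set Kx := K0.subgroupOf X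
    have hKxcop : (Nat.card Kx).Coprime M := by
      have h1 : Nat.card Kx ∣ Nat.card K0 := K0.card_comap_dvd_of_injective X.subtype X.subtype_injective
      refine Nat.Coprime.coprime_dvd_left h1 ?_
      have h2 : Nat.card K0 = L1'.index := hK0c.index_eq_card.symm
      rw [h2, ← hMC, ← hL1'c]
      exact hL1'H.symm
    have hKxi : Kx.index = M := by
      refine Nat.dvd_antisymm ?_ ?_
      · rw [← hK0i]; exact K0.relIndex_dvd_index_of_normal X
      · refine Nat.Coprime.dvd_of_dvd_mul_left hKxcop.symm ?_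
        rw [Kx.card_mul_index, hXcard]; exact hdX
    obtain ⟨Y, hY⟩ := exists_right_complement'_of_coprime (N := Kx) (by rw [hKxi]; exact hKxcop)
    set Y' := (Y.map X.subtype).map C.subtype
    have hY'c : Nat.card Y' = M := by
      rw [card_map_of_injective C.subtype_injective, card_map_of_injective X.subtype_injective,
        ← hY.symm.index_eq_card, hKxi]
    obtain ⟨g', hg'⟩ := CfsgLib.NilpotentHall.contains_conj L Y' hLn hLHall
      (fun q _ hd => by rwa [hLc, ← hM, ← hY'c])
    haveI : Group.IsNilpotent (MulAut.conj g' • L : Subgroup G) := by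
      haveI := hLn
      exact Group.nilpotent_of_mulEquiv (Subgroup.equivSMul (MulAut.conj g') L)
    haveI : Group.IsNilpotent Y' := CfsgLib.Schmidt.isNilpotent_of_le hg' inferInstance
    haveI : Group.IsNilpotent (R : Subgroup G) := R.isPGroup'.isNilpotent
    obtain ⟨H, hH, hHn⟩ := exists_nilpotent_product Y' (R : Subgroup G)
      (fun y hy b hb => by
        obtain ⟨y1, ⟨y2, -, rfl⟩, rfl⟩ := hy
        exact (mem_centralizer_iff.1 (mem_subgroupOf.1 y2.2) b hb).symm)
      (by rw [hY'c, hR]; exact ((hr.coprime_iff_not_dvd.2 hrM).pow_left _).symm)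
    exact hno ⟨H, by rw [hH, hY'c, hR, mul_comm], hHn⟩
  -- an element of small prime order power acts on `R`
  obtain ⟨s, hs, hsd⟩ : ∃ s ∈ π, ¬ s ^ (Nat.card G).factorization s ∣
      Nat.card (centralizer ((R : Subgroup G) : Set G)) := by
    by_contra! h
    exact hdX (piPart_dvd_of_forall hπ h)
  haveI := Fact.mk (hπ s hs)
  set N := normalizer ((R : Subgroup G) : Set G)
  obtain ⟨S⟩ := (inferInstance : Nonempty (Sylow s N))
  set A := (S : Subgroup N).map N.subtype
  obtain ⟨g, hgA, hgC⟩ : ∃ g ∈ A, g ∉ centralizer ((R : Subgroup G) : Set G) := by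
    refine SetLike.not_le_iff_exists.1 fun hle => hsd ?_
    refine dvd_trans ?_ (card_dvd_of_le hle)
    rw [card_map_of_injective N.subtype_injective, S.card_eq_multiplicity]
    refine pow_dvd_pow _ ((hπ s hs).pow_dvd_iff_le_factorization Nat.card_pos.ne' |>.1 ?_)
    exact (Finset.dvd_prod_of_mem (fun t => t ^ (Nat.card G).factorization t) hs).trans hdN
  have hF := mul_card_fixed_le R hgC
  set F := (centralizer ({g} : Set G)).subgroupOf (R : Subgroup G) with hFdef
  have h2 := mul_card_le_add (toPClasses R) (toPClasses_surjective R)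
    (F : Set (R : Subgroup G)) (p' + 1) fun x hx => (hmin s hs).trans
      (le_card_fiber R A (S.2.map _) (map_subtype_le _) x ⟨g, hgA, fun he => hx (by
        rw [SetLike.mem_coe, hFdef, mem_subgroupOf, mem_centralizer_singleton_iff]
        exact he.symm)⟩)
  rw [show Nat.card ((F : Set (R : Subgroup G))) = Nat.card F from rfl, hR, Nat.add_sub_cancel] at h2
  rw [hR] at hF
  refine absurd hlt (not_lt.2 (hcrude.trans ?_))
  rw [← mul_assoc, ← add_mul]
  refine Nat.mul_le_mul_right _ ?_
  refine Nat.le_of_mul_le_mul_left ?_ (Nat.mul_pos (show 0 < p' + 1 by omega) hr.pos)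
  zify at h2 hF har hpr ⊢
  nlinarith [mul_le_mul_of_nonneg_left har
      (mul_nonneg (show (0:ℤ) ≤ p' + 1 by positivity) (Int.natCast_nonneg p')),
    mul_le_mul_of_nonneg_left h2 (Int.natCast_nonneg r),
    mul_le_mul_of_nonneg_left hF (Int.natCast_nonneg p'),
    mul_nonneg (mul_nonneg (Int.natCast_nonneg V) (Int.natCast_nonneg p'))
      (show (0:ℤ) ≤ r - p' - 2 by linarith)]

/-- Many classes of `π`-elements force a nilpotent Hall `π`-subgroup. -/
theorem exists_nilpotent_hall (n : ℕ) : ∀ (π : Finset ℕ), π.card = n → (∀ s ∈ π, s.Prime) →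
    ∀ p : ℕ, 2 ≤ p → (∀ s ∈ π, p ≤ s) → ∀ (G : Type u) [Group G] [Finite G],
      piPart π G < p * Nat.card (piClasses π G) →
      ∃ L : Subgroup G, Nat.card L = piPart π G ∧ Group.IsNilpotent L := by
  induction n with
  | zero =>
    intro π hn _ p _ _ G _ _ _
    refine ⟨⊥, ?_, inferInstance⟩
    rw [Finset.card_eq_zero.1 hn, card_bot]
    exact Finset.prod_empty.symm
  | succ n ih =>
    intro π hn hπ p hp hmin G _ _ hbig
    classical
    have hne : π.Nonempty := Finset.card_pos.1 (by omega)
    set r := π.max' hne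
    have hr : r ∈ π := π.max'_mem hne
    haveI := Fact.mk (hπ r hr)
    have hins : insert r (π.erase r) = π := Finset.insert_erase hr
    rcases (π.erase r).eq_empty_or_nonempty with he | ⟨s, hs⟩
    · obtain ⟨R⟩ := (inferInstance : Nonempty (Sylow r G))
      refine ⟨R, ?_, R.isPGroup'.isNilpotent⟩
      rw [R.card_eq_multiplicity, ← hins, piPart_insert (Finset.notMem_erase r π), he]
      simp [piPart]
    · have hπ' : ∀ t ∈ π.erase r, t.Prime := fun t ht => hπ t (Finset.mem_of_mem_erase ht)
      have hmin' : ∀ t ∈ π.erase r, p ≤ t := fun t ht => hmin t (Finset.mem_of_mem_erase ht)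
      have hlt : ∀ t ∈ π.erase r, t < r := fun t ht =>
        lt_of_le_of_ne (π.le_max' t (Finset.mem_of_mem_erase ht)) (Finset.ne_of_mem_erase ht)
      rw [← hins, piPart_insert (Finset.notMem_erase r π)] at hbig ⊢
      exact exists_hall_step hπ' hlt hp hmin' ((hmin' s hs).trans_lt (hlt s hs))
        (fun H => ih (π.erase r) (by rw [Finset.card_erase_of_mem hr, hn]; omega) hπ' p hp hmin' H)
        hbig

end CfsgLib.PiClasses
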