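import Cfsg.Agent.PiClasses.Actions

/-!
The case of an abelian Sylow subgroup for the largest prime that is central in its normalizer.
-/

set_option autoImplicit false
set_option linter.unusedSectionVars false
set_option linter.style.haveILetI false
set_option linter.deprecated false

namespace CfsgLib.PiClasses

open Subgroup CfsgLib.FGSA CfsgLib.Solvable CfsgLib.SZ
open scoped Pointwise

variable {G : Type*} [Group G] [Finite G]

theorem mem_of_coprime_index (N : Subgroup G) [N.Normal] {x : G}
    (h : (orderOf x).Coprime N.index) : x ∈ N := by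
  obtain ⟨m, hm⟩ := exists_pow_eq_self_of_coprime (x := x) h.symm
  rw [← hm]
  exact pow_mem (N.pow_index_mem x) m

theorem le_of_coprime_index (N X : Subgroup G) [N.Normal] (h : (Nat.card X).Coprime N.index) :
    X ≤ N := fun _ hx =>
  mem_of_coprime_index N (h.coprime_dvd_left (Subgroup.orderOf_dvd_natCard _ hx))

theorem piPart_dvd_of_forall {π : Finset ℕ} (hπ : ∀ s ∈ π, s.Prime) {a : ℕ}
    (h : ∀ s ∈ π, s ^ (Nat.card G).factorization s ∣ a) : piPart π G ∣ a :=
  Finset.prod_dvd_of_isRelPrime (fun x hx y hy hxy => Nat.coprime_iff_isRelPrime.1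
    (Nat.Coprime.pow _ _ ((Nat.coprime_primes (hπ x hx) (hπ y hy)).2 hxy))) h

theorem mem_centralizer_zpowers {u x : G} :
    x ∈ centralizer (zpowers u : Set G) ↔ x ∈ centralizer ({u} : Set G) := by
  refine ⟨fun h => mem_centralizer_singleton_iff.2
    (mem_centralizer_iff.1 h u (mem_zpowers u)).symm, fun h => mem_centralizer_iff.2 fun y hy => ?_⟩
  obtain ⟨i, rfl⟩ := mem_zpowers_iff.1 hy
  exact ((show Commute x u from mem_centralizer_singleton_iff.1 h).zpow_right i).eq.symm

/-- An `s`-subgroup of the centralizer of `u` is no bigger than the centralizer of `u` in a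
`u`-invariant Sylow `s`-subgroup. -/
theorem card_le_inf_centralizer {r s : ℕ} [hr : Fact r.Prime] [hs : Fact s.Prime]
    (K : Subgroup G) [K.Normal] (hrK : ¬ r ∣ Nat.card K) {u : G} (hu : IsPGroup r (zpowers u))
    (S : Subgroup G) (hSK : S ≤ K) (hS : Nat.card S = s ^ (Nat.card G).factorization s)
    (huS : u ∈ normalizer (S : Set G)) (T : Subgroup G) (hTK : T ≤ K) (hT : IsPGroup s T)
    (hTu : T ≤ centralizer ({u} : Set G)) :
    Nat.card T ≤ Nat.card ↥(S ⊓ centralizer ({u} : Set G)) := by
  have hAK : zpowers u ≤ normalizer (K : Set G) := le_normalizer_of_normal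
  obtain ⟨j, hj⟩ := IsPGroup.iff_card.1 hu
  have hcop : (Nat.card (zpowers u)).Coprime (Nat.card K) := by
    rw [hj]; exact (hr.out.coprime_iff_not_dvd.2 hrK).pow_left j
  have hsolv : Group.IsSolvable (zpowers u) ∨ Group.IsSolvable K :=
    Or.inl (haveI := hu.isNilpotent; inferInstance)
  have hTA : zpowers u ≤ normalizer (T : Set G) :=
    CfsgLib.Socle.le_normalizer_of_le_centralizer fun a ha => mem_centralizer_iff.2 fun t ht =>
      mem_centralizer_iff.1 (mem_centralizer_zpowers.2 (hTu ht)) a ha |>.symm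
  obtain ⟨P, hTP, hPA⟩ := CfsgLib.CoprimeAct.exists_invariant_sylow_ge hAK hcop hsolv s hTK hT hTA
  have hv : (Nat.card K).factorization s = (Nat.card G).factorization s := by
    refine le_antisymm ((Nat.factorization_le_iff_dvd Nat.card_pos.ne' Nat.card_pos.ne').2
      K.card_subgroup_dvd_card s) ?_
    have h1 : s ^ (Nat.card G).factorization s ∣ Nat.card K := hS ▸ card_dvd_of_le hSK
    exact (hs.out.pow_dvd_iff_le_factorization Nat.card_pos.ne').1 h1
  let SK : Sylow s K := Sylow.ofCard (S.subgroupOf K) (by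
    rw [Nat.card_congr (subgroupOfEquivOfLe hSK).toEquiv, hS, hv])
  have hSK' : (SK : Subgroup K).map K.subtype = S := by
    show (S.subgroupOf K).map K.subtype = S
    exact map_subgroupOf_eq_of_le hSK
  obtain ⟨c, hc, hcP⟩ := CfsgLib.CoprimeAct.invariant_sylow_conj hAK hcop hsolv s P SK hPA
    (by rw [hSK']; exact zpowers_le.2 huS)
  have hmap : MulAut.conj (c : G) • (P : Subgroup K).map K.subtype = S := by
    rw [← hSK', ← hcP, conj_smul_map]
    rfl
  rw [← card_conj_smul (c : G) T]
  refine card_le_of_le (le_inf ?_ ?_)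
  · rw [← hmap]; exact pointwise_smul_le_pointwise_smul_iff.2 hTP
  · intro x hx
    have h1 := mem_centralizer_zpowers.1 hc
    have h2 : (c : G)⁻¹ * x * (c : G) ∈ T := by
      have := mem_conj_smul.1 hx
      simpa using this
    rw [show x = (c : G) * ((c : G)⁻¹ * x * (c : G)) * (c : G)⁻¹ by group]
    exact mul_mem (mul_mem h1 (hTu h2)) (inv_mem h1)

/-- The regular case: `R` abelian with `N(R) ≤ C(R)`. -/
theorem exists_hall_regular {π : Finset ℕ} (hπ : ∀ s ∈ π, s.Prime) {r p : ℕ} [hrp : Fact r.Prime]
    (hrπ : ∀ s ∈ π, s < r) (hmin : ∀ s ∈ π, p ≤ s) (hpr : p < r) (R : Sylow r G)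
    (hN : normalizer ((R : Subgroup G) : Set G) ≤ centralizer ((R : Subgroup G) : Set G))
    (L : Subgroup G) (hL : Nat.card L = piPart π G) (hLn : Group.IsNilpotent L)
    (hbig : r ^ (Nat.card G).factorization r * piPart π G <
      p * Nat.card (piClasses (insert r π) G)) :
    ∃ H : Subgroup G, Nat.card H = r ^ (Nat.card G).factorization r * piPart π G ∧
      Group.IsNilpotent H := by
  classical
  have hr : r.Prime := Fact.out
  have hrmem : r ∉ π := fun h => (hrπ r h).false
  set K := (MonoidHom.transferSylow R hN).ker with hKdef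
  have hKc : K.IsComplement' (R : Subgroup G) := MonoidHom.ker_transferSylow_isComplement' R hN
  have hKi : K.index = r ^ (Nat.card G).factorization r := by
    rw [hKc.symm.index_eq_card, R.card_eq_multiplicity]
  have hrK : ¬ r ∣ Nat.card K := by rw [← hKc.index_eq_card]; exact R.not_dvd_index
  have hrL : ¬ r ∣ Nat.card L := fun h =>
    hrmem (mem_of_prime_dvd_piPart hπ hr (hL ▸ h))
  have hLK : L ≤ K := le_of_coprime_index K L
    (by rw [hKi]; exact ((hr.coprime_iff_not_dvd.2 hrL).pow_left _).symm)
  have hLHall := coprime_index hπ hL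
  -- Frattini
  set N := normalizer (L : Set G)
  have hsup : N ⊔ K = ⊤ := by
    refine eq_top_iff.2 fun g _ => ?_
    have hgK : MulAut.conj g • L ≤ K := le_of_coprime_index K _
      (by rw [card_conj_smul, hKi]; exact ((hr.coprime_iff_not_dvd.2 hrL).pow_left _).symm)
    haveI : Group.IsNilpotent (L.subgroupOf K) :=
      Group.nilpotent_of_mulEquiv (subgroupOfEquivOfLe hLK).symm
    obtain ⟨k, hk⟩ := CfsgLib.NilpotentHall.contains_conj (L.subgroupOf K)
      ((MulAut.conj g • L).subgroupOf K) inferInstance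
      (by
        rw [Nat.card_congr (subgroupOfEquivOfLe hLK).toEquiv]
        exact hLHall.coprime_dvd_right (relIndex_dvd_index_of_le hLK))
      fun q _ hd => by
        rwa [Nat.card_congr (subgroupOfEquivOfLe hgK).toEquiv, card_conj_smul,
          ← Nat.card_congr (subgroupOfEquivOfLe hLK).toEquiv] at hd
    have hle := map_mono (f := K.subtype) hk
    rw [conj_smul_map, map_subgroupOf_eq_of_le hgK, map_subgroupOf_eq_of_le hLK] at hle
    have heq := eq_of_le_of_card_le hle (by rw [card_conj_smul, card_conj_smul])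
    have hn : (k : G)⁻¹ * g ∈ N := by
      rw [← conj_smul_eq_iff_mem_normalizer, conj_smul_mul, heq, Subgroup.coe_subtype,
        ← conj_smul_mul, inv_mul_cancel, map_one, one_smul]
    rw [show g = (k : G) * ((k : G)⁻¹ * g) by group]
    exact mul_mem (mem_sup_right k.2) (mem_sup_left hn)
  have hdvdN : r ^ (Nat.card G).factorization r ∣ Nat.card N := by
    rw [← hKi, ← relIndex_top_right, ← hsup, relIndex_sup_right]
    exact relIndex_dvd_card _ _
  obtain ⟨Q⟩ := (inferInstance : Nonempty (Sylow r N))
  have hQc : Nat.card ((Q : Subgroup N).map N.subtype) = r ^ (Nat.card G).factorization r := by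
    rw [card_map_of_injective N.subtype_injective, Q.card_eq_multiplicity]
    congr 1
    exact le_antisymm ((Nat.factorization_le_iff_dvd Nat.card_pos.ne' Nat.card_pos.ne').2
      N.card_subgroup_dvd_card r) ((hr.pow_dvd_iff_le_factorization Nat.card_pos.ne').1 hdvdN)
  let R2 : Sylow r G := Sylow.ofCard _ hQc
  have hR2N : (R2 : Subgroup G) ≤ N := map_subtype_le _
  have hR2c : Nat.card (R2 : Subgroup G) = r ^ (Nat.card G).factorization r := hQc
  by_cases hcent : L ≤ centralizer ((R2 : Subgroup G) : Set G)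
  · haveI := hLn
    haveI : Group.IsNilpotent (R2 : Subgroup G) := R2.isPGroup'.isNilpotent
    obtain ⟨H, hH, hHn⟩ := exists_nilpotent_product L (R2 : Subgroup G)
      (fun a ha b hb => (mem_centralizer_iff.1 (hcent ha) b hb).symm)
      (by rw [hR2c]; exact ((hr.coprime_iff_not_dvd.2 hrL).pow_left _).symm)
    exact ⟨H, by rw [hH, hR2c, hL, mul_comm], hHn⟩
  exfalso
  -- a Sylow subgroup of `L` that is not centralized
  obtain ⟨s, hsπ, S0, hS0⟩ : ∃ s ∈ π, ∃ S0 : Sylow s L,
      ¬ (S0 : Subgroup L).map L.subtype ≤ centralizer ((R2 : Subgroup G) : Set G) := by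
    by_contra! hall
    refine hcent ?_
    have hd : piPart π G ∣ Nat.card ↥(L ⊓ centralizer ((R2 : Subgroup G) : Set G)) := by
      refine piPart_dvd_of_forall hπ fun s hs => ?_
      haveI := Fact.mk (hπ s hs)
      obtain ⟨S0⟩ := (inferInstance : Nonempty (Sylow s L))
      have h := card_dvd_of_le (le_inf (map_subtype_le _) (hall s hs S0))
      rw [card_map_of_injective L.subtype_injective, S0.card_eq_multiplicity] at h
      rcases Nat.eq_zero_or_pos ((Nat.card G).factorization s) with h0 | h0
      · rw [h0, pow_zero]; exact one_dvd _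
      rwa [← CfsgLib.NilpotentHall.factorization_hall hLHall (hπ s hs)
        (hL ▸ (dvd_pow_self s h0.ne').trans
          (Finset.dvd_prod_of_mem (fun t => t ^ (Nat.card G).factorization t) hs))]
    exact (eq_of_le_of_card_le inf_le_left (hL ▸ Nat.le_of_dvd Nat.card_pos hd)).ge.trans inf_le_right
  haveI := Fact.mk (hπ s hsπ)
  set S := (S0 : Subgroup L).map L.subtype with hSdef
  have hSL : S ≤ L := map_subtype_le _
  have hsd : s ∣ Nat.card L := by
    by_contra hnd
    refine hS0 ?_
    have h1 : Nat.card S = 1 := by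
      rw [hSdef, card_map_of_injective L.subtype_injective, S0.card_eq_multiplicity,
        Nat.factorization_eq_zero_of_not_dvd hnd, pow_zero]
    rw [Subgroup.eq_bot_of_card_eq S h1]
    exact bot_le
  have hScard : Nat.card S = s ^ (Nat.card G).factorization s :=
    CfsgLib.NilpotentHall.sylow_card hLHall hsd S0
  haveI : (S0 : Subgroup L).Normal := by
    haveI := hLn
    infer_instance
  have hR2S : (R2 : Subgroup G) ≤ normalizer (S : Set G) := by
    intro g hg
    rw [← conj_smul_eq_iff_mem_normalizer]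
    have hgL : MulAut.conj g • S ≤ L := by
      refine (pointwise_smul_le_pointwise_smul_iff.2 hSL).trans ?_
      rw [conj_smul_eq_iff_mem_normalizer.2 (hR2N hg)]
    have hp : IsPGroup s ((MulAut.conj g • S).subgroupOf L) :=
      ((S0.2.map L.subtype).map (MulAut.conj g).toMonoidHom).comap_subtype
    obtain ⟨S1, hS1⟩ := hp.exists_le_sylow
    haveI := Sylow.unique_of_normal S0 inferInstance
    rw [Subsingleton.elim S1 S0] at hS1
    have h2 := map_mono (f := L.subtype) hS1
    rw [map_subgroupOf_eq_of_le hgL] at h2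
    exact eq_of_le_of_card_le h2 (by rw [card_conj_smul])
  -- the bound on each term
  set M := piPart π G
  have hterm : ∀ u ∈ (R2 : Subgroup G),
      Nat.card (piClasses π (centralizer ({u} : Set G))) * Nat.card S ≤
        M * Nat.card ↥(S ⊓ centralizer ({u} : Set G)) := by
    intro u hu
    set C := centralizer ({u} : Set G)
    obtain ⟨T⟩ := (inferInstance : Nonempty (Sylow s C))
    have hsr : ¬ s ∣ r := fun h => (hrπ s hsπ).ne ((Nat.prime_dvd_prime_iff_eq (hπ s hsπ) hr).1 h)
    have hT : Nat.card ((T : Subgroup C).map C.subtype) = s ^ (Nat.card C).factorization s := by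
      rw [card_map_of_injective C.subtype_injective, T.card_eq_multiplicity]
    have hTK : (T : Subgroup C).map C.subtype ≤ K := le_of_coprime_index K _ (by
      rw [hT, hKi]
      exact Nat.Coprime.pow _ _ ((hπ s hsπ).coprime_iff_not_dvd.2 hsr))
    have huR : IsPGroup r (zpowers u) := R2.isPGroup'.to_le (zpowers_le.2 hu)
    have h1 := card_le_inf_centralizer K hrK huR S (hSL.trans hLK) hScard (hR2S hu) _ hTK
      (T.2.map _) (map_subtype_le _)
    rw [hT] at h1
    have hπ' : ∀ t ∈ π.erase s, t.Prime := fun t ht => hπ t (Finset.mem_of_mem_erase ht)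
    have h2 := card_piClasses_le π hπ C
    calc Nat.card (piClasses π C) * Nat.card S
        ≤ piPart π C * Nat.card S := Nat.mul_le_mul_right _ h2
      _ = s ^ (Nat.card C).factorization s * piPart (π.erase s) C * Nat.card S := by
          rw [← piPart_insert (Finset.notMem_erase s π), Finset.insert_erase hsπ]
      _ ≤ Nat.card ↥(S ⊓ C) * piPart (π.erase s) G * Nat.card S :=
          Nat.mul_le_mul_right _ (Nat.mul_le_mul h1 (piPart_le_subgroup _ hπ' C))
      _ = M * Nat.card ↥(S ⊓ C) := by
          rw [hScard, show M = s ^ (Nat.card G).factorization s * piPart (π.erase s) G by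
            rw [← piPart_insert (Finset.notMem_erase s π), Finset.insert_erase hsπ]]
          ring
  -- the elements centralizing `S`
  set D := centralizer (S : Set G) ⊓ (R2 : Subgroup G)
  haveI := Fintype.ofFinite (R2 : Subgroup G)
  have hterm' : ∀ u : (R2 : Subgroup G),
      s ^ 2 * Nat.card (piClasses π (centralizer ({(u : G)} : Set G))) ≤
        M * (if (u : G) ∈ D then s ^ 2 else 1) := by
    intro u
    refine Nat.le_of_mul_le_mul_right (c := Nat.card S) ?_ Nat.card_pos
    calc s ^ 2 * Nat.card (piClasses π (centralizer ({(u : G)} : Set G))) * Nat.card S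
        ≤ s ^ 2 * (M * Nat.card ↥(S ⊓ centralizer ({(u : G)} : Set G))) := by
          rw [mul_assoc]; exact Nat.mul_le_mul_left _ (hterm u u.2)
      _ ≤ _ := by
          split_ifs with hD
          · calc s ^ 2 * (M * Nat.card ↥(S ⊓ centralizer ({(u : G)} : Set G)))
                ≤ s ^ 2 * (M * Nat.card S) :=
                  Nat.mul_le_mul_left _ (Nat.mul_le_mul_left _ (card_le_of_le inf_le_left))
              _ = _ := by ring
          · rw [mul_one, mul_left_comm]
            refine Nat.mul_le_mul_left _ (sq_mul_card_inf_centralizer_le (hrπ s hsπ) S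
              (S0.2.map _) (R2.isPGroup'.to_le (zpowers_le.2 u.2)) (hR2S u.2)
              fun h => hD ⟨h, u.2⟩)
  have hsum := card_piClasses_insert_le_sum (G := G) hr π (fun u : (R2 : Subgroup G) => (u : G))
    (fun x hx => by
      obtain ⟨y, hy⟩ := toPClasses_surjective R2 ⟨ConjClasses.mk x, fun w hw => by
        rw [orderOf_eq_of_isConj ((ConjClasses.mk_eq_mk_iff_isConj.1
          (ConjClasses.mem_carrier_iff_mk_eq.1 hw)).symm)]
        exact hx⟩
      exact ⟨y, ConjClasses.mk_eq_mk_iff_isConj.1 (congrArg Subtype.val hy)⟩)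
  set d := (Finset.univ.filter fun u : (R2 : Subgroup G) => (u : G) ∈ D).card with hd
  have hdR : r * d ≤ r ^ (Nat.card G).factorization r := by
    have hdc : d = Nat.card (D.subgroupOf (R2 : Subgroup G)) := by
      rw [hd, Nat.card_eq_fintype_card, ← Fintype.card_subtype]
      rfl
    obtain ⟨n, hn⟩ := R2.isPGroup'.index (D.subgroupOf (R2 : Subgroup G))
    have hn0 : n ≠ 0 := by
      rintro rfl
      rw [pow_zero, index_eq_one, subgroupOf_eq_top] at hn
      exact hS0 (le_centralizer_iff.1 (hn.trans inf_le_left))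
    rw [hdc, ← hR2c, ← (D.subgroupOf (R2 : Subgroup G)).card_mul_index, hn, mul_comm r]
    exact Nat.mul_le_mul_left _ (Nat.le_self_pow hn0 r)
  set V := r ^ (Nat.card G).factorization r
  have htot : s ^ 2 * Nat.card (piClasses (insert r π) G) + M * d ≤
      M * (d * s ^ 2) + M * V := by
    have h3 : s ^ 2 * Nat.card (piClasses (insert r π) G) ≤
        ∑ u : (R2 : Subgroup G), M * (if (u : G) ∈ D then s ^ 2 else 1) := by
      refine (Nat.mul_le_mul_left _ hsum).trans ?_
      rw [Finset.mul_sum]
      exact Finset.sum_le_sum fun u _ => hterm' u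
    rw [← Finset.mul_sum, Finset.sum_ite, Finset.sum_const, Finset.sum_const, smul_eq_mul,
      smul_eq_mul, mul_one, ← hd] at h3
    have h4 : (Finset.univ.filter fun u : (R2 : Subgroup G) => ¬ (u : G) ∈ D).card + d = V := by
      rw [hd, add_comm, Finset.card_filter_add_card_filter_not, Finset.card_univ,
        ← Nat.card_eq_fintype_card, hR2c]
    rw [← h4]
    linarith [Nat.mul_add M (d * s ^ 2)
      (Finset.univ.filter fun u : (R2 : Subgroup G) => ¬ (u : G) ∈ D).card]
  have hs2 : 2 ≤ s := (hπ s hsπ).two_le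
  have hps := hmin s hsπ
  have hMpos : 0 < M := piPart_pos π hπ
  have hVpos : 0 < V := pow_pos hr.pos _
  have hbig' := Nat.mul_le_mul_left (s ^ 2) (Nat.succ_le_of_lt hbig)
  zify at htot hdR hbig' hpr hps hs2 hMpos hVpos
  have hss : (0 : ℤ) ≤ (s : ℤ) ^ 2 - 1 := by nlinarith
  nlinarith [mul_le_mul_of_nonneg_left htot (mul_nonneg (Int.natCast_nonneg p) (Int.natCast_nonneg r)),
    mul_le_mul_of_nonneg_left hdR (mul_nonneg (mul_nonneg (Int.natCast_nonneg p) hss) hMpos.le),
    mul_le_mul_of_nonneg_left hbig' (Int.natCast_nonneg r),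
    mul_nonneg (mul_nonneg hMpos.le hVpos.le)
      (mul_nonneg (show (0:ℤ) ≤ r - p - 1 by linarith) (show (0:ℤ) ≤ s ^ 2 - p by nlinarith)),
    mul_nonneg (mul_nonneg hMpos.le hVpos.le) (show (0:ℤ) ≤ s ^ 2 - p ^ 2 by nlinarith),
    mul_nonneg hMpos.le hVpos.le]

end CfsgLib.PiClasses
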